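import Cfsg.Agent.H269.T6.Tab
import Cfsg.Agent.H122.SX.GaussH
import Cfsg.Agent.H122.Ore.Blk
import Cfsg.Agent.H777.T6.Defs

/-!
# Levi subgroups `A₂ × A₁` (S2464, helper269)

`φ : SL₃(K) → D.group K`, `ψ = sl k : SL₂(K) → D.group K` commuting with it.

* `TabT.comm`, `TabT.up`, `TabT.lo`, `TabT.memφ`, `memψ`;
* `TabT.nf` : no fixed points of `φ X · ψ Y` on the unipotent radicals, `X` irreducible of order prime to the order of `Y`;
* `TabT.t6` : the row, from the product theorems in `SL₃(K)` and `SL₂(K)`.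
-/

set_option autoImplicit false
set_option linter.unusedSectionVars false

namespace Cfsg.Agent.H269.T6

open CoxeterSystem Cfsg.Agent.ChevalleyStructure.CoxeterGeom Cfsg.Agent.Tits.Roots Cfsg.Agent.Tits.Core
  Cfsg.Agent.Nodes.Reps Cfsg.Agent.Nodes.BNOf Cfsg.Agent.Nodes.RGDLib Cfsg.Agent.Nodes.Bruhat
  Cfsg.Agent.Nodes.OppDec Cfsg.Agent.Nodes.LeviDec Cfsg.Agent.Nodes.KindChev Cfsg.Agent.Nodes.ChevCls
  Cfsg.Agent.OddHalf.NI.ModelChev Cfsg.Agent.Nodes.StabComb
  Cfsg.Agent.H162.GaussDec Cfsg.Agent.H162.GaussLevi Cfsg.Agent.H162.GaussSL Cfsg.Agent.H162.GaussReg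
  Cfsg.Agent.H162.GaussPQ
  Cfsg.Agent.H928.Ore.Frame Cfsg.Agent.H928.Ore.Fix Cfsg.Agent.H928.Ore.Block
open Cfsg.Lie Cfsg.Agent.ChevalleyStructure Cfsg.Agent.ChevalleyStructure.Elts
  Cfsg.Agent.ChevalleyStructure.RootVec Cfsg.Agent.ChevalleyStructure.NPerm
  Cfsg.Agent.ChevalleyStructure.CoxeterGeomTypes Cfsg.Agent.Nodes.RGDChev Cfsg.Agent.KFacts.RgdChevCoord
open Cfsg.Agent.TitsThree.KExcRT Cfsg.Agent.H194.Ore
open Cfsg.Agent.FixBN.FieldRGD (uu vv dd ww)
open Cfsg.Agent.H162.GaussExc (coord)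
open scoped MatrixGroups

universe u

/-! ### Homomorphisms of `SL_n` -/

section

variable {K : Type*} [Field K] {Y : Type*} [Group Y]

theorem tv01 (c : K) : Matrix.SpecialLinearGroup.transvection (show (0 : Fin 2) ≠ 1 by decide) c = uu c := by
  apply Subtype.ext
  ext i j
  fin_cases i <;> fin_cases j <;> simp [Matrix.SpecialLinearGroup.transvection, Matrix.transvection, uu]

theorem tv10 (c : K) : Matrix.SpecialLinearGroup.transvection (show (1 : Fin 2) ≠ 0 by decide) c = vv c := by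
  apply Subtype.ext
  ext i j
  fin_cases i <;> fin_cases j <;> simp [Matrix.SpecialLinearGroup.transvection, Matrix.transvection, vv]

theorem ext2 {f f' : SL(2, K) →* Y} (h1 : ∀ a, f (uu a) = f' (uu a)) (h2 : ∀ a, f (vv a) = f' (vv a)) : f = f' := by
  refine hom_ext fun i j hij c => ?_
  fin_cases i <;> fin_cases j
  · exact absurd rfl hij
  · exact (congrArg f (tv01 c)).trans ((h1 c).trans (congrArg f' (tv01 c)).symm)
  · exact (congrArg f (tv10 c)).trans ((h2 c).trans (congrArg f' (tv10 c)).symm)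
  · exact absurd rfl hij

theorem comm_gen {n : ℕ} {f : Matrix.SpecialLinearGroup (Fin n) K →* Y} {y : Y}
    (h : ∀ a b (hab : a ≠ b) c, y * f (Matrix.SpecialLinearGroup.transvection hab c) =
      f (Matrix.SpecialLinearGroup.transvection hab c) * y) (A : Matrix.SpecialLinearGroup (Fin n) K) :
    y * f A = f A * y := by
  have h2 : (MulAut.conj y).toMonoidHom.comp f = f := by
    refine hom_ext fun a b hab c => ?_
    change y * f _ * y⁻¹ = f _
    rw [h a b hab c]
    group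
  have h3 := DFunLike.congr_fun h2 A
  change y * f A * y⁻¹ = f A at h3
  calc y * f A = (y * f A * y⁻¹) * y := by group
    _ = f A * y := by rw [h3]

theorem comm_gen2 {f : SL(2, K) →* Y} {y : Y} (h1 : ∀ a, y * f (uu a) = f (uu a) * y)
    (h2 : ∀ a, y * f (vv a) = f (vv a) * y) (A : SL(2, K)) : y * f A = f A * y := by
  refine comm_gen (fun i j hij c => ?_) A
  fin_cases i <;> fin_cases j
  · exact absurd rfl hij
  · have e := congrArg f (tv01 c)
    exact (congrArg (y * ·) e).trans ((h1 c).trans (congrArg (· * y) e).symm)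
  · have e := congrArg f (tv10 c)
    exact (congrArg (y * ·) e).trans ((h2 c).trans (congrArg (· * y) e).symm)
  · exact absurd rfl hij

theorem mem_gen2 {f : SL(2, K) →* Y} {L : Subgroup Y} (h1 : ∀ a, f (uu a) ∈ L) (h2 : ∀ a, f (vv a) ∈ L)
    (A : SL(2, K)) : f A ∈ L := by
  have h3 : (⊤ : Subgroup (SL(2, K))) ≤ L.comap f := by
    rw [← Cfsg.Agent.LieClassical.SLGen.closure_transvections, Subgroup.closure_le]
    rintro _ ⟨i, j, hij, c, rfl⟩
    change f _ ∈ L
    fin_cases i <;> fin_cases j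
    · exact absurd rfl hij
    · exact (congrArg f (tv01 c)) ▸ h1 c
    · exact (congrArg f (tv10 c)) ▸ h2 c
    · exact absurd rfl hij
  exact h3 (Subgroup.mem_top A)

end

section

variable {D : ChevalleyDatum} {l : ℕ} {M : CoxeterMatrix (Fin l)} (hp : IsType D l M) {K : Type u} [Field K]

/-- commuting root elements -/
theorem xc_comm {r s : ℕ} (hr : r < D.nroots) (hs : s < D.nroots) (hrs : s ≠ r) (hneg : s ≠ D.neg r)
    (h : D.commTerms r s = []) (t u : K) :
    xc hp (vec D l s) u * xc hp (vec D l r) t = xc hp (vec D l r) t * xc hp (vec D l s) u := by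
  apply Subtype.ext
  rw [Subgroup.coe_mul, Subgroup.coe_mul, coe_xc hp hr, coe_xc hp hs]
  apply Units.ext
  have h1 := Cfsg.Agent.S1025.result (F := K) D hp.inList r s hr hs hrs hneg t u
  rw [ChevalleyDatum.commWord, h, List.map_nil, wordMat_nil, mul_one] at h1
  exact h1

include hp in
theorem sk_eq (k : Fin l) : (sr k : Fin l → ℤ) = vec D l (D.simple k) ∧ (-sr k : Fin l → ℤ) = vec D l (D.neg (D.simple k)) := by
  have h0 := simple_lt hp.inList (lt_rank hp k)
  exact ⟨(vec_simple hp k).symm, by rw [vec_neg hp h0, vec_simple hp k]⟩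

variable {J : List (Fin l)} {r : Fin 3 → Fin 3 → ℕ} {ε : ℤ} {i j k : Fin l} (T : TabT D l J r ε i j k)
  {φ : Matrix.SpecialLinearGroup (Fin 3) K →* ↥(D.group K)}
  (hφ : ∀ a b (hab : a ≠ b) c, φ (Matrix.SpecialLinearGroup.transvection hab c) = xc hp (vec D l (r a b)) ((ε : K) * c))

include T

theorem TabT.memψ (B : SL(2, K)) : sl hp k B ∈ LJ M.toCoxeterSystem hp.isCartan (TT D K) (XX D l K) {m | m ∈ J} := by
  have h0 := simple_lt hp.inList (lt_rank hp k)
  have h0' := neg_lt hp.inList h0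
  have hz : ∀ m, m ∉ J → (sr k : Fin l → ℤ) m = 0 := by
    intro m hm
    have hmk : m ≠ k := fun e => hm (e ▸ T.kJ)
    unfold sr
    exact Pi.single_eq_of_ne hmk _
  refine mem_gen2 (fun a => ?_) (fun a => ?_) B
  · rw [sl_uu, (sk_eq hp k).1]
    refine X_le_LJ (x := vec D l (D.simple k)) ⟨isRoot_vec hp _ h0, fun m hm => ?_⟩ ((mem_XX hp h0 _).2 ⟨_, rfl⟩)
    rw [← (sk_eq hp k).1]
    exact hz m hm
  · rw [sl_vv, (sk_eq hp k).2]
    refine X_le_LJ (x := vec D l (D.neg (D.simple k))) ⟨isRoot_vec hp _ h0', fun m hm => ?_⟩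
      ((mem_XX hp h0' _).2 ⟨_, rfl⟩)
    rw [← (sk_eq hp k).2, Pi.neg_apply, hz m hm, neg_zero]

include hφ

theorem TabT.memφ (A : Matrix.SpecialLinearGroup (Fin 3) K) :
    φ A ∈ LJ M.toCoxeterSystem hp.isCartan (TT D K) (XX D l K) {m | m ∈ J} :=
  Cfsg.Agent.H928.Ore.Block.phi_mem hp T.ra hφ (J := {m | m ∈ J}) T.rJ A

theorem TabT.comm (A : Matrix.SpecialLinearGroup (Fin 3) K) (B : SL(2, K)) : φ A * sl hp k B = sl hp k B * φ A := by
  have h0 := simple_lt hp.inList (lt_rank hp k)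
  have h0' := neg_lt hp.inList h0
  refine comm_gen2 (fun c => ?_) (fun c => ?_) B
  · rw [sl_uu, (sk_eq hp k).1]
    symm
    refine comm_gen (fun a b hab d => ?_) A
    obtain ⟨h1, h2, h3, -⟩ := T.com a b hab
    rw [hφ]
    exact xc_comm hp (T.ra a b hab) h0 h1 h2 h3 _ _
  · rw [sl_vv, (sk_eq hp k).2]
    symm
    refine comm_gen (fun a b hab d => ?_) A
    obtain ⟨-, -, -, h1, h2, h3⟩ := T.com a b hab
    rw [hφ]
    exact xc_comm hp (T.ra a b hab) h0' h1 h2 h3 _ _

/-- the homomorphism of the product -/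
noncomputable def TabT.hom : Matrix.SpecialLinearGroup (Fin 3) K × SL(2, K) →* ↥(D.group K) :=
  MonoidHom.noncommCoprod φ (sl hp k) fun A B => T.comm hp hφ A B

theorem TabT.hom_apply (A : Matrix.SpecialLinearGroup (Fin 3) K) (B : SL(2, K)) :
    T.hom hp hφ (A, B) = φ A * sl hp k B := MonoidHom.noncommCoprod_apply _ _ _ _

variable (hε : ε * ε = 1)

include hε

theorem TabT.up : UJ M.toCoxeterSystem hp.isCartan (XX D l K) {m | m ∈ J} ≤
    ((UT 3 K).prod (UT 2 K)).map (T.hom hp hφ) := by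
  have hεK : (ε : K) * (ε : K) = 1 := by rw [← Int.cast_mul, hε, Int.cast_one]
  have h0 := simple_lt hp.inList (lt_rank hp k)
  refine RGD.Sup_le fun x hx => ?_
  obtain ⟨q, hq, rfl⟩ := (isRoot_iff hp _ x).1 hx.1
  rcases T.sub q hq hx.2.2 with ⟨a, b, hab, rfl, h1, h2⟩ | rfl | rfl
  · have hlt : a < b := by
      rcases lt_or_gt_of_ne hab with h | h
      · exact h
      · obtain ⟨m, hm⟩ := h2 h
        exact absurd (hx.2.1 m) (not_le.2 hm)
    intro y hy
    obtain ⟨c, rfl⟩ := (mem_XX hp hq y).1 hy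
    refine ⟨(Matrix.SpecialLinearGroup.transvection hab ((ε : K) * c), 1),
      ⟨tv_mem_UT hab hlt _, one_mem _⟩, ?_⟩
    rw [T.hom_apply, map_one, mul_one, hφ, ← mul_assoc, hεK, one_mul]
  · intro y hy
    obtain ⟨c, rfl⟩ := (mem_XX hp hq y).1 hy
    refine ⟨(1, uu c), ⟨one_mem _, ?_⟩, ?_⟩
    · rw [← tv01]
      exact tv_mem_UT (show (0 : Fin 2) ≠ 1 by decide) (by decide) _
    · rw [T.hom_apply, map_one, one_mul, sl_uu, (sk_eq hp k).1]
  · exfalso
    have h3 := hx.2.1 k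
    rw [← (sk_eq hp k).2, Pi.neg_apply] at h3
    unfold sr at h3
    rw [Pi.single_eq_same] at h3
    exact absurd h3 (by norm_num)

theorem TabT.lo : UNJ M.toCoxeterSystem hp.isCartan (XX D l K) {m | m ∈ J} ≤
    ((LT 3 K).prod (LT 2 K)).map (T.hom hp hφ) := by
  have hεK : (ε : K) * (ε : K) = 1 := by rw [← Int.cast_mul, hε, Int.cast_one]
  have h0 := simple_lt hp.inList (lt_rank hp k)
  refine RGD.Sup_le fun x hx => ?_
  have hx1 := hx.1.neg
  rw [_root_.neg_neg] at hx1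
  obtain ⟨q, hq, rfl⟩ := (isRoot_iff hp _ x).1 hx1
  rcases T.sub q hq (fun m hm => by
    have := hx.2.2 m hm
    rwa [Pi.neg_apply, neg_eq_zero] at this) with ⟨a, b, hab, rfl, h1, h2⟩ | rfl | rfl
  · have hlt : b < a := by
      rcases lt_or_gt_of_ne hab with h | h
      · obtain ⟨m, hm⟩ := h1 h
        have h3 := hx.2.1 m
        rw [Pi.neg_apply, Pi.zero_apply, Left.nonneg_neg_iff] at h3
        exact absurd hm (not_lt.2 h3)
      · exact h
    intro y hy
    obtain ⟨c, rfl⟩ := (mem_XX hp hq y).1 hy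
    refine ⟨(Matrix.SpecialLinearGroup.transvection hab ((ε : K) * c), 1),
      ⟨tv_mem_LT hab hlt _, one_mem _⟩, ?_⟩
    rw [T.hom_apply, map_one, mul_one, hφ, ← mul_assoc, hεK, one_mul]
  · exfalso
    have h3 := hx.2.1 k
    rw [← (sk_eq hp k).1, Pi.neg_apply] at h3
    unfold sr at h3
    rw [Pi.single_eq_same] at h3
    exact absurd h3 (by norm_num)
  · intro y hy
    obtain ⟨c, rfl⟩ := (mem_XX hp hq y).1 hy
    refine ⟨(1, vv c), ⟨one_mem _, ?_⟩, ?_⟩
    · rw [← tv10]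
      exact tv_mem_LT (show (1 : Fin 2) ≠ 0 by decide) (by decide) _
    · rw [T.hom_apply, map_one, one_mul, sl_vv, (sk_eq hp k).2]

end

end Cfsg.Agent.H269.T6
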