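import Cfsg.Agent.H269.T6.Blk

/-!
# Fixed points for the Levi subgroup `A₂ × A₁` (S2464, helper269)

`TabT.nf` : no fixed points of `φ X · ψ Y` on the unipotent radicals, `X` irreducible of order prime to the order of `Y`.
-/

set_option autoImplicit false
set_option linter.unusedSectionVars false

namespace Cfsg.Agent.H269.T6

open CoxeterSystem Cfsg.Agent.ChevalleyStructure.CoxeterGeom Cfsg.Agent.Tits.Roots Cfsg.Agent.Tits.Core
  Cfsg.Agent.Nodes.Reps Cfsg.Agent.Nodes.BNOf Cfsg.Agent.Nodes.RGDLib Cfsg.Agent.Nodes.Bruhat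
  Cfsg.Agent.Nodes.OppDec Cfsg.Agent.Nodes.LeviDec Cfsg.Agent.Nodes.KindChev Cfsg.Agent.Nodes.ChevCls
  Cfsg.Agent.OddHalf.NI.ModelChev Cfsg.Agent.Nodes.StabComb
  Cfsg.Agent.H162.GaussDec Cfsg.Agent.H162.GaussLevi Cfsg.Agent.H162.GaussSL Cfsg.Agent.H162.GaussReg
  Cfsg.Agent.H162.GaussPQ
  Cfsg.Agent.H928.Ore.Frame Cfsg.Agent.H928.Ore.Fix Cfsg.Agent.H928.Ore.Block
open Cfsg.Lie Cfsg.Agent.ChevalleyStructure Cfsg.Agent.ChevalleyStructure.Elts
  Cfsg.Agent.ChevalleyStructure.RootVec Cfsg.Agent.ChevalleyStructure.NPerm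
  Cfsg.Agent.ChevalleyStructure.CoxeterGeomTypes Cfsg.Agent.Nodes.RGDChev Cfsg.Agent.KFacts.RgdChevCoord
open Cfsg.Agent.TitsThree.KExcRT Cfsg.Agent.H194.Ore
open Cfsg.Agent.FixBN.FieldRGD (uu vv dd ww)
open Cfsg.Agent.H162.GaussExc (coord)
open scoped MatrixGroups

universe u v

theorem prod_single {K : Type*} [Field K] {D : ChevalleyDatum} {l : ℕ} (i : Fin l) (u : Kˣ) (s : ℕ) :
    ∏ k : Fin l, (((Pi.mulSingle i u : Fin l → Kˣ) k : Kˣ) : K) ^ D.cartan k s = (u : K) ^ D.cartan i s := by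
  rw [Finset.prod_eq_single i]
  · rw [Pi.mulSingle_eq_same]
  · intro k _ hk
    rw [Pi.mulSingle_eq_of_ne hk, Units.val_one, _root_.one_zpow]
  · intro hi; exact absurd (Finset.mem_univ i) hi

theorem prod_three {K : Type*} [Field K] {D : ChevalleyDatum} {l : ℕ} (i j k : Fin l) (a b c : Kˣ) (s : ℕ) :
    ∏ m : Fin l, (((Pi.mulSingle i a * Pi.mulSingle j b * Pi.mulSingle k c : Fin l → Kˣ) m : Kˣ) : K) ^ D.cartan m s =
      (a : K) ^ D.cartan i s * (b : K) ^ D.cartan j s * (c : K) ^ D.cartan k s := by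
  rw [← prod_single (D := D) i a, ← prod_single (D := D) j b, ← prod_single (D := D) k c, ← Finset.prod_mul_distrib,
    ← Finset.prod_mul_distrib]
  refine Finset.prod_congr rfl fun m _ => ?_
  rw [Pi.mul_apply, Pi.mul_apply, Units.val_mul, Units.val_mul, mul_zpow, mul_zpow]

/-- two elements of coprime exponents with product one -/
theorem eq_one_of_mul {G : Type*} [CommGroup G] {n s : ℕ} (hc : Nat.Coprime n s) {w c : G} (hw : w ^ n = 1)
    (hs : c ^ s = 1) (h : w * c = 1) : w = 1 := by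
  have h1 : c = w⁻¹ := (inv_eq_of_mul_eq_one_right h).symm
  have h2 : w ^ s = 1 := by
    rw [h1, inv_pow, inv_eq_one] at hs
    exact hs
  have h3 : orderOf w ∣ n := orderOf_dvd_of_pow_eq_one hw
  have h4 : orderOf w ∣ s := orderOf_dvd_of_pow_eq_one h2
  have h5 : orderOf w ∣ 1 := by
    have := Nat.dvd_gcd h3 h4
    rwa [Nat.Coprime.gcd_eq_one hc] at this
  exact orderOf_eq_one_iff.1 (Nat.dvd_one.1 h5)

section

variable {D : ChevalleyDatum} {l : ℕ} {M : CoxeterMatrix (Fin l)} (hp : IsType D l M) {K : Type u} [Field K]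
  {J : List (Fin l)} {r : Fin 3 → Fin 3 → ℕ} {ε : ℤ} {i j k : Fin l} (T : TabT D l J r ε i j k) (hε : ε * ε = 1)
  {φ : Matrix.SpecialLinearGroup (Fin 3) K →* ↥(D.group K)}
  (hφ : ∀ a b (hab : a ≠ b) c, φ (Matrix.SpecialLinearGroup.transvection hab c) = xc hp (vec D l (r a b)) ((ε : K) * c))

include T

/-- the values of the torus element on the roots outside `J` -/
theorem TabT.val {n s : ℕ} (hc : Nat.Coprime n s) {a b c : Kˣ} (ha : a ^ n = 1) (hb : b ^ n = 1) (ha1 : a ≠ 1)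
    (hb1 : b ≠ 1) (hab : a ≠ b) (hcs : c ^ s = 1) (hc1 : c ≠ 1) {q : ℕ} (hq : q < D.nroots)
    (hk : ∃ m, m ∉ J ∧ vec D l q m ≠ 0) :
    (a : K) ^ D.cartan i q * (b : K) ^ D.cartan j q * (c : K) ^ D.cartan k q ≠ 1 := by
  intro h
  have h1 : a ^ D.cartan i q * b ^ D.cartan j q * c ^ D.cartan k q = 1 := by
    apply Units.ext
    rw [Units.val_mul, Units.val_mul, Units.val_zpow_eq_zpow_val, Units.val_zpow_eq_zpow_val,
      Units.val_zpow_eq_zpow_val, h, Units.val_one]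
  have hw : (a ^ D.cartan i q * b ^ D.cartan j q) ^ n = 1 := by
    rw [mul_pow, ← zpow_natCast, ← zpow_natCast, ← zpow_mul, ← zpow_mul, mul_comm (D.cartan i q),
      mul_comm (D.cartan j q), zpow_mul, zpow_mul, zpow_natCast, zpow_natCast, ha, hb, one_zpow, one_zpow, one_mul]
  have hcs' : (c ^ D.cartan k q) ^ s = 1 := by
    rw [← zpow_natCast, ← zpow_mul, mul_comm (D.cartan k q), zpow_mul, zpow_natCast, hcs, one_zpow]
  have h2 := eq_one_of_mul hc hw hcs' h1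
  rcases T.out q hq hk with h3 | ⟨h3, h4, h5⟩
  · rcases h3 with h3 | h3 | h3 | h3 | h3 | h3 <;> rw [h3.1, h3.2] at h2
    · rw [zpow_one, zpow_zero, mul_one] at h2
      exact ha1 h2
    · rw [zpow_neg_one, zpow_zero, mul_one, inv_eq_one] at h2
      exact ha1 h2
    · rw [zpow_one, zpow_zero, one_mul] at h2
      exact hb1 h2
    · rw [zpow_neg_one, zpow_zero, one_mul, inv_eq_one] at h2
      exact hb1 h2
    · rw [zpow_one, zpow_neg_one, mul_inv_eq_one] at h2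
      exact hab h2
    · rw [zpow_one, zpow_neg_one, inv_mul_eq_one] at h2
      exact hab h2
  · rw [h2, one_mul] at h1
    rcases abs_eq (by norm_num : (0 : ℤ) ≤ 1) |>.1 h5 with h8 | h8 <;> rw [h8] at h1
    · rw [zpow_one] at h1
      exact hc1 h1
    · rw [zpow_neg_one, inv_eq_one] at h1
      exact hc1 h1

include hφ hε

/-- no fixed points, diagonalised -/
theorem TabT.nf0 [Finite K] {n s : ℕ} (hc : Nat.Coprime n s) {a b c : Kˣ} (ha : a ^ n = 1) (hb : b ^ n = 1)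
    (ha1 : a ≠ 1) (hb1 : b ≠ 1) (hab : a ≠ b) (hcs : c ^ s = 1) (hc1 : c ≠ 1)
    (P : Matrix.SpecialLinearGroup (Fin 3) K) (Q : SL(2, K)) :
    NF (VJ M.toCoxeterSystem hp.isCartan (XX D l K) {m | m ∈ J})
        (φ (P * dg3 a b * P⁻¹) * sl hp k (Q * dd (c : K) c.ne_zero * Q⁻¹)) ∧
      NF (VNJ M.toCoxeterSystem hp.isCartan (XX D l K) {m | m ∈ J})
        (φ (P * dg3 a b * P⁻¹) * sl hp k (Q * dd (c : K) c.ne_zero * Q⁻¹)) := by
  obtain ⟨p, hpc⟩ := CharP.exists K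
  have : Fact p.Prime := ⟨(CharP.char_is_prime_or_zero K p).resolve_right (CharP.char_ne_zero_of_finite K p)⟩
  have := finite_W hp M.toCoxeterSystem
  have hth : ∀ t : Fin l → Kˣ, th hp t ∈ TT D K := fun t => (thT hp t).2
  have h1 := T.comm hp hφ
  have e : φ (P * dg3 a b * P⁻¹) * sl hp k (Q * dd (c : K) c.ne_zero * Q⁻¹) =
      (φ P * sl hp k Q) * th hp (Pi.mulSingle i a * Pi.mulSingle j b * Pi.mulSingle k c) * (φ P * sl hp k Q)⁻¹ := by
    have e0 : th hp (Pi.mulSingle i a * Pi.mulSingle j b * Pi.mulSingle k c) =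
        φ (dg3 a b) * sl hp k (dd (c : K) c.ne_zero) := by
      rw [phi_dg3 hp hε T.ra T.rn hφ T.hi T.hj, ← th_mulSingle, ← map_mul]
    rw [e0]
    simp only [map_mul, map_inv]
    have e1 := h1 P (dd (c : K) c.ne_zero)
    have e2 := h1 (dg3 a b) Q
    have e3 : (φ P)⁻¹ * sl hp k Q = sl hp k Q * (φ P)⁻¹ := by
      rw [← map_inv, h1]
    have e4 : (φ P)⁻¹ * sl hp k (dd (c : K) c.ne_zero) = sl hp k (dd (c : K) c.ne_zero) * (φ P)⁻¹ := by
      rw [← map_inv, h1]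
    have e5 : (φ P)⁻¹ * (sl hp k Q)⁻¹ = (sl hp k Q)⁻¹ * (φ P)⁻¹ := by
      rw [← map_inv, ← map_inv, h1]
    calc φ P * φ (dg3 a b) * (φ P)⁻¹ * (sl hp k Q * sl hp k (dd (c : K) c.ne_zero) * (sl hp k Q)⁻¹)
        = φ P * φ (dg3 a b) * ((φ P)⁻¹ * sl hp k Q) * sl hp k (dd (c : K) c.ne_zero) * (sl hp k Q)⁻¹ := by group
      _ = φ P * (φ (dg3 a b) * sl hp k Q) * ((φ P)⁻¹ * sl hp k (dd (c : K) c.ne_zero)) * (sl hp k Q)⁻¹ := by
        rw [e3]; group
      _ = φ P * (sl hp k Q * φ (dg3 a b)) * sl hp k (dd (c : K) c.ne_zero) * ((φ P)⁻¹ * (sl hp k Q)⁻¹) := by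
        rw [e2, e4]; group
      _ = _ := by rw [e5]; group
  rw [e]
  refine nf_conj (rgd (K := K) hp M.toCoxeterSystem p) (hth _) (noFix_ch hp (hth _) fun q hq hk => ?_)
    (mul_mem (T.memφ hp hφ P) (T.memψ hp Q))
  rw [ch_th hp hq, prod_three]
  exact T.val hc ha hb ha1 hb1 hab hcs hc1 hq hk

end

/-! ### Powers of diagonal matrices -/

section

variable {K : Type*} [Field K]

theorem coe_dg3_pow (a b : Kˣ) (n : ℕ) : dg3 a b ^ n = dg3 (a ^ n) (b ^ n) := by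
  apply Subtype.ext
  rw [Matrix.SpecialLinearGroup.coe_pow]
  change (Matrix.diagonal ![(a : K), ((a⁻¹ * b : Kˣ) : K), ((b⁻¹ : Kˣ) : K)]) ^ n =
    Matrix.diagonal ![((a ^ n : Kˣ) : K), (((a ^ n)⁻¹ * b ^ n : Kˣ) : K), (((b ^ n)⁻¹ : Kˣ) : K)]
  rw [Matrix.diagonal_pow]
  congr 1
  funext m
  fin_cases m
  · simp
  · simp [mul_pow]
  · simp

theorem dg3_eq_one {a b : Kˣ} (h : dg3 a b = 1) : a = 1 ∧ b = 1 := by
  have h1 : Matrix.diagonal ![(a : K), ((a⁻¹ * b : Kˣ) : K), ((b⁻¹ : Kˣ) : K)] = 1 := congrArg Subtype.val h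
  have h2 := congrFun (congrFun h1 0) 0
  have h3 := congrFun (congrFun h1 2) 2
  rw [Matrix.diagonal_apply_eq, Matrix.one_apply_eq] at h2 h3
  refine ⟨Units.ext h2, ?_⟩
  have h4 : b⁻¹ = 1 := Units.ext h3
  exact inv_eq_one.1 h4

end

section

variable {D : ChevalleyDatum} {l : ℕ} {M : CoxeterMatrix (Fin l)} (hp : IsType D l M) {K : Type u} [Field K]

theorem map_uu {K' : Type v} [Field K'] (ι : K →+* K') (a : K) :
    Matrix.SpecialLinearGroup.map ι (uu a) = uu (ι a) := by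
  apply Subtype.ext
  change (!![(1 : K), a; 0, 1]).map ι = !![1, ι a; 0, 1]
  ext i j
  fin_cases i <;> fin_cases j <;> simp

theorem map_vv {K' : Type v} [Field K'] (ι : K →+* K') (a : K) :
    Matrix.SpecialLinearGroup.map ι (vv a) = vv (ι a) := by
  apply Subtype.ext
  change (!![(1 : K), 0; a, 1]).map ι = !![1, 0; ι a, 1]
  ext i j
  fin_cases i <;> fin_cases j <;> simp

theorem bc_sl {K' : Type v} [Field K'] (ι : K →+* K') (k : Fin l) (B : SL(2, K)) :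
    bc D ι (sl hp k B) = sl hp k (Matrix.SpecialLinearGroup.map ι B) := by
  have h : (bc D ι).comp (sl hp k) = (sl hp k).comp (Matrix.SpecialLinearGroup.map ι) := by
    refine ext2 (fun a => ?_) (fun a => ?_)
    · change bc D ι (sl hp k (uu a)) = sl hp k (Matrix.SpecialLinearGroup.map ι (uu a))
      rw [map_uu, sl_uu, sl_uu, bc_sr]
    · change bc D ι (sl hp k (vv a)) = sl hp k (Matrix.SpecialLinearGroup.map ι (vv a))
      rw [map_vv, sl_vv, sl_vv, bc_nsr]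
  exact DFunLike.congr_fun h B

theorem map_dg3 {K' : Type v} [Field K'] (ι : K →+* K') (a b : Kˣ) :
    Matrix.SpecialLinearGroup.map ι (dg3 a b) = dg3 (Units.map ι.toMonoidHom a) (Units.map ι.toMonoidHom b) := by
  apply Subtype.ext
  change (Matrix.diagonal ![(a : K), ((a⁻¹ * b : Kˣ) : K), ((b⁻¹ : Kˣ) : K)]).map ι = Matrix.diagonal _
  rw [Matrix.diagonal_map (map_zero ι)]
  congr 1
  funext m
  fin_cases m
  · simp
  · simp
  · simp

variable {J : List (Fin l)} {r : Fin 3 → Fin 3 → ℕ} {ε : ℤ} {i j k : Fin l} (T : TabT D l J r ε i j k) (hε : ε * ε = 1)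
  {φ : Matrix.SpecialLinearGroup (Fin 3) K →* ↥(D.group K)}
  (hφ : ∀ a b (hab : a ≠ b) c, φ (Matrix.SpecialLinearGroup.transvection hab c) = xc hp (vec D l (r a b)) ((ε : K) * c))

include T hφ hε

/-- **No fixed points.** -/
theorem TabT.nf [Finite K] {n s : ℕ} (hc : Nat.Coprime n s) {X : Matrix.SpecialLinearGroup (Fin 3) K}
    (hX : Irreducible (X : Matrix (Fin 3) (Fin 3) K).charpoly) (hXn : X ^ n = 1) {Y : SL(2, K)}
    (hY : ∀ (K' : Type u) [Field K'] [Finite K'] (ι : K →+* K'), ∃ (K'' : Type u) (_ : Field K'') (_ : Finite K'')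
      (ι' : K' →+* K'') (c : K''ˣ) (Q : SL(2, K'')), Matrix.SpecialLinearGroup.map ι'
        (Matrix.SpecialLinearGroup.map ι Y) = Q * dd (c : K'') c.ne_zero * Q⁻¹ ∧ c ≠ 1 ∧ c ^ s = 1) :
    NF (VJ M.toCoxeterSystem hp.isCartan (XX D l K) {m | m ∈ J}) (φ X * sl hp k Y) ∧
      NF (VNJ M.toCoxeterSystem hp.isCartan (XX D l K) {m | m ∈ J}) (φ X * sl hp k Y) := by
  obtain ⟨K1, i1, i2, ι1, a, b, P, e, h0, h1, h2⟩ := exists_dg3 hX
  obtain ⟨K2, i3, i4, ι2, c, Q, e', hc1, hcs⟩ := hY K1 ι1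
  obtain ⟨φ2, hφ2⟩ := Cfsg.Agent.H162.GaussExcMain.exists_hom_D hp (K := K2) hε T.ra T.rb T.rc T.rn
  -- the eigenvalues
  have hn : dg3 a b ^ n = 1 := by
    have h3 : (P * dg3 a b * P⁻¹) ^ n = 1 := by rw [← e, ← map_pow, hXn, map_one]
    rw [conj_pow] at h3
    have h4 : dg3 a b ^ n = P⁻¹ * (P * dg3 a b ^ n * P⁻¹) * P := by group
    rw [h4, h3]
    group
  rw [coe_dg3_pow] at hn
  obtain ⟨han, hbn⟩ := dg3_eq_one hn
  have ha1 : a ≠ 1 := fun h => h0 1 (by rw [h, map_one, Units.val_one])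
  have hb1 : b ≠ 1 := fun h => h2 1 (by rw [h, map_one, inv_one, Units.val_one])
  have hab : a ≠ b := fun h => h1 1 (by rw [h, map_one, inv_mul_cancel, Units.val_one])
  have hinj : Function.Injective (Units.map ι2.toMonoidHom : K1ˣ →* K2ˣ) := Units.map_injective ι2.injective
  have key := T.nf0 hp hε hφ2 hc (a := Units.map ι2.toMonoidHom a) (b := Units.map ι2.toMonoidHom b) (c := c)
    (by rw [← map_pow, han, map_one]) (by rw [← map_pow, hbn, map_one])
    (fun h => ha1 (hinj (by rw [h, map_one]))) (fun h => hb1 (hinj (by rw [h, map_one])))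
    (fun h => hab (hinj h)) hcs hc1 (Matrix.SpecialLinearGroup.map ι2 P) Q
  have e2 : bc D (ι2.comp ι1) (φ X * sl hp k Y) =
      φ2 (Matrix.SpecialLinearGroup.map ι2 P * dg3 (Units.map ι2.toMonoidHom a) (Units.map ι2.toMonoidHom b) *
        (Matrix.SpecialLinearGroup.map ι2 P)⁻¹) * sl hp k (Q * dd (c : K2) c.ne_zero * Q⁻¹) := by
    have e3 : Matrix.SpecialLinearGroup.map (ι2.comp ι1) X =
        Matrix.SpecialLinearGroup.map ι2 (Matrix.SpecialLinearGroup.map ι1 X) := rfl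
    have e4 : Matrix.SpecialLinearGroup.map (ι2.comp ι1) Y =
        Matrix.SpecialLinearGroup.map ι2 (Matrix.SpecialLinearGroup.map ι1 Y) := rfl
    have e5 : Matrix.SpecialLinearGroup.map ι2 (P * dg3 a b * P⁻¹) = Matrix.SpecialLinearGroup.map ι2 P *
        dg3 (Units.map ι2.toMonoidHom a) (Units.map ι2.toMonoidHom b) * (Matrix.SpecialLinearGroup.map ι2 P)⁻¹ := by
      rw [map_mul, map_mul, map_inv, map_dg3]
    rw [map_mul, bc_sl, bc_phi hp (ι2.comp ι1) T.ra hφ hφ2, e3, e4, e, e', e5]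
  rw [← e2] at key
  exact ⟨NF.of_hom (bc D (ι2.comp ι1)) (bc_injective D _) (VJ_le_comap hp _ _) key.1,
    NF.of_hom (bc D (ι2.comp ι1)) (bc_injective D _) (VNJ_le_comap hp _ _) key.2⟩

end

end Cfsg.Agent.H269.T6
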