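import Cfsg.Agent.H145.SLTwo
import Cfsg.Agent.H394.SqPsl2
import Cfsg.Agent.H962.TC.Num
import Mathlib.GroupTheory.Perm.Cycle.Type

/-!
# Two classes of prime order in `SL₂(q)` (S2464, helper269)

`sl_two` : for `q ≥ 4`, `q ≠ 5, 7, 17` there are `x`, `y` of the same prime order `s ≥ 5`, `s ∣ q² - 1`, such that every
nonscalar element is a product of a conjugate of `x` and a conjugate of `y`; their traces `τ` satisfy `τ² ≠ 4`.
-/

set_option autoImplicit false

namespace Cfsg.Agent.H269.T6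

open Matrix Cfsg.Agent.H145.SLTwo
open scoped MatrixGroups

section

variable {F : Type*} [Field F]

/-- the trace -/
abbrev tr2 (A : SL(2, F)) : F := Matrix.trace (A : Matrix (Fin 2) (Fin 2) F)

theorem two_eq_or [Fintype F] : (Fintype.card F % 2 = 1) ∨ (ringChar F = 2) := by
  by_cases h : ringChar F = 2
  · exact Or.inr h
  · exact Or.inl (FiniteField.odd_card_of_char_ne_two h)

theorem two_zero (h : ringChar F = 2) : (2 : F) = 0 := by
  have : CharP F 2 := ringChar.eq_iff.1 h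
  exact CharTwo.two_eq_zero

theorem exists_sqrt [Fintype F] (h : ringChar F = 2) (a : F) : ∃ u : F, u ^ 2 = a := by
  obtain ⟨u, hu⟩ := FiniteField.isSquare_of_char_two h a
  exact ⟨u, by rw [pow_two, ← hu]⟩

/-- Elements with the same trace `t`, `t² ≠ 4`, are conjugate. -/
theorem conj_tr [Fintype F] {A B : SL(2, F)} (h : tr2 A = tr2 B) (h4 : tr2 A ^ 2 ≠ 4) :
    ∃ g : SL(2, F), A = g * B * g⁻¹ := by
  have hA : A ∉ Subgroup.center (SL(2, F)) := fun hc => h4 (trace_of_center hc)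
  have hB : B ∉ Subgroup.center (SL(2, F)) := fun hc => h4 (by rw [h]; exact trace_of_center hc)
  rcases two_eq_or (F := F) with ho | he
  · obtain ⟨g, hg⟩ := conj_of_trace ho hB hA h.symm (by rw [← tr2, ← h]; exact h4)
    exact ⟨g, hg.symm⟩
  · obtain ⟨g, l, hl, hg⟩ := exists_nf A hA
    obtain ⟨k, m, hm, hk⟩ := exists_nf B hB
    obtain ⟨x, hx⟩ := exists_sqrt he (l / m)
    obtain ⟨r, hr⟩ := nf_conj_of (t := tr2 B) hm hl (x := x) (y := 0) (by rw [hx]; field_simp; ring)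
    refine ⟨g⁻¹ * r⁻¹ * k, ?_⟩
    have h1 : A = g⁻¹ * (g * A * g⁻¹) * g := by group
    have h2 : g⁻¹ * r⁻¹ * k * B * (g⁻¹ * r⁻¹ * k)⁻¹ = g⁻¹ * (r⁻¹ * (k * B * k⁻¹) * r) * g := by group
    have h3 : r⁻¹ * nf m (tr2 B) hm * r = nf l (tr2 B) hl := by rw [← hr]; group
    rw [h2, hk, h3, h1, hg]
    simp only [← h, tr2]

/-- `nf l t` is a product of elements of traces `α`, `β`, `α ≠ ±β`. -/
theorem exists_factor2 [Fintype F] {l t α β : F} (hl : l ≠ 0) (h1 : α ≠ β) (h2 : α ≠ -β) :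
    ∃ A B : SL(2, F), A * B = nf l t hl ∧ tr2 A = α ∧ tr2 B = β := by
  obtain ⟨a, y, hay⟩ : ∃ a y : F, a ^ 2 + y ^ 2 - α * a - β * y + t * a * y + 1 = 0 := by
    have h1' : α - β ≠ 0 := sub_ne_zero.2 h1
    have h2' : α + β ≠ 0 := fun h => h2 (eq_neg_of_add_eq_zero_left h)
    by_cases ht2 : t = 2
    · refine ⟨(α - β)⁻¹, -(α - β)⁻¹, ?_⟩
      rw [ht2]
      field_simp
      ring
    by_cases ht : t = -2
    · refine ⟨(α + β)⁻¹, (α + β)⁻¹, ?_⟩
      rw [ht]
      field_simp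
      ring
    rcases two_eq_or (F := F) with ho | he
    · have h20 : (2 : F) ≠ 0 := two_ne_zero_of_odd ho
      obtain ⟨s, rfl⟩ : ∃ s : F, t = 2 * s := ⟨t / 2, by field_simp⟩
      have hq : (1 - s ^ 2 : F) ≠ 0 := by
        intro h
        have h1 : (s - 1) * (s + 1) = 0 := by linear_combination -h
        rcases mul_eq_zero.mp h1 with h1 | h1
        · exact ht2 (by linear_combination 2 * h1)
        · exact ht (by linear_combination 2 * h1)
      obtain ⟨a, b, hab⟩ := FiniteField.exists_root_sum_quadratic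
        (f := Polynomial.C 1 * Polynomial.X ^ 2 + Polynomial.C (-α) * Polynomial.X + Polynomial.C 1)
        (g := Polynomial.C (1 - s ^ 2) * Polynomial.X ^ 2 + Polynomial.C (α * s - β) * Polynomial.X + Polynomial.C 0)
        (Polynomial.degree_quadratic one_ne_zero) (Polynomial.degree_quadratic hq) ho
      refine ⟨a - s * b, b, ?_⟩
      simp only [Polynomial.eval_add, Polynomial.eval_mul, Polynomial.eval_C, Polynomial.eval_pow,
        Polynomial.eval_X] at hab
      linear_combination hab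
    · have h20 := two_zero he
      have ht0 : t ≠ 0 := fun h => ht2 (by rw [h, h20])
      obtain ⟨a, ha⟩ := exists_sqrt he (-((α / t) ^ 2 - β * (α / t) + 1))
      refine ⟨a, α / t, ?_⟩
      rw [ha]
      field_simp
      ring
  have hA : a * (α - a) - (-(y / l)) * (l * (β - y - a * t)) = 1 := by
    field_simp
    linear_combination -hay
  refine ⟨mk2 a (-(y / l)) (l * (β - y - a * t)) (α - a) hA,
    (mk2 a (-(y / l)) (l * (β - y - a * t)) (α - a) hA)⁻¹ * nf l t hl, ?_, ?_, ?_⟩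
  · group
  · simp [tr2, Matrix.trace_fin_two]
  · rw [tr2, Matrix.SpecialLinearGroup.coe_mul, Matrix.SpecialLinearGroup.coe_inv, nf_coe, mk2_coe]
    simp [Matrix.trace_fin_two, Matrix.adjugate_fin_two]
    field_simp
    ring

/-- the product theorem -/
theorem prod_tr [Fintype F] {x y : SL(2, F)} (h1 : tr2 x ≠ tr2 y) (h2 : tr2 x ≠ -tr2 y) (hx : tr2 x ^ 2 ≠ 4)
    (hy : tr2 y ^ 2 ≠ 4) {A : SL(2, F)} (hA : ∀ c : F, (A : Matrix (Fin 2) (Fin 2) F) ≠ c • 1) :
    ∃ a b : SL(2, F), A = (a * x * a⁻¹) * (b * y * b⁻¹) := by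
  have hc : A ∉ Subgroup.center (SL(2, F)) := by
    intro h
    obtain ⟨c, -, hc⟩ := Matrix.SpecialLinearGroup.mem_center_iff.1 h
    refine hA c ?_
    rw [← hc, Matrix.smul_one_eq_diagonal]
    rfl
  obtain ⟨g, l, hl, hg⟩ := exists_nf A hc
  obtain ⟨P, Q, hPQ, hP, hQ⟩ := exists_factor2 (t := Matrix.trace (A : Matrix (Fin 2) (Fin 2) F)) hl h1 h2
  obtain ⟨u, hu⟩ := conj_tr hP (by rw [hP]; exact hx)
  obtain ⟨v, hv⟩ := conj_tr hQ (by rw [hQ]; exact hy)
  refine ⟨g⁻¹ * u, g⁻¹ * v, ?_⟩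
  calc A = g⁻¹ * (g * A * g⁻¹) * g := by group
    _ = g⁻¹ * (P * Q) * g := by rw [hg, hPQ]
    _ = _ := by rw [hu, hv]; group

/-! ### Elements of prime order -/

theorem cay (A : SL(2, F)) : (A : Matrix (Fin 2) (Fin 2) F) * (A : Matrix (Fin 2) (Fin 2) F) =
    tr2 A • (A : Matrix (Fin 2) (Fin 2) F) - 1 := cayley A

/-- the trace of an element of prime order `s ≥ 5`, `s ≠ p` -/
theorem tr_ne {x : SL(2, F)} {s : ℕ} (hs : s.Prime) (h5 : 5 ≤ s) (hsF : (s : F) ≠ 0) (hx : orderOf x = s) :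
    tr2 x ^ 2 ≠ 4 := by
  intro h4
  obtain ⟨e, he, hτ⟩ : ∃ e : F, e ^ 2 = 1 ∧ tr2 x = 2 * e := by
    by_cases h2 : (2 : F) = 0
    · refine ⟨1, one_pow 2, ?_⟩
      have h40 : (4 : F) = 0 := by linear_combination 2 * h2
      rw [h40] at h4
      rw [pow_eq_zero_iff (by norm_num)] at h4
      rw [h4, mul_one, h2]
    · refine ⟨tr2 x / 2, ?_, by field_simp⟩
      rw [div_pow, h4]
      have : (2 : F) ^ 2 = 4 := by norm_num
      rw [this]
      refine div_self fun h => h2 ?_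
      have h3 : (2 : F) * 2 = 0 := by linear_combination h
      rcases mul_eq_zero.1 h3 with h3 | h3 <;> exact h3
  obtain ⟨N, hN⟩ : ∃ N : Matrix (Fin 2) (Fin 2) F, N = (x : Matrix (Fin 2) (Fin 2) F) - e • 1 := ⟨_, rfl⟩
  have hx' : (x : Matrix (Fin 2) (Fin 2) F) = e • 1 + N := by rw [hN]; abel
  have hN2 : N * N = 0 := by
    rw [hN]
    have := cay x
    rw [hτ] at this
    rw [sub_mul, mul_sub, mul_sub, this]
    simp only [Matrix.smul_mul, Matrix.mul_smul, Matrix.one_mul, Matrix.mul_one]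
    have h1 : e • (e • (1 : Matrix (Fin 2) (Fin 2) F)) = 1 := by rw [smul_smul, ← pow_two, he, one_smul]
    rw [h1, two_mul, add_smul]
    abel
  have hp : ∀ m : ℕ, (x : Matrix (Fin 2) (Fin 2) F) ^ (m + 1) = (e ^ (m + 1)) • 1 + (((m + 1 : ℕ) : F) * e ^ m) • N := by
    intro m
    induction m with
    | zero => simp [hx']
    | succ m ih =>
      rw [pow_succ, ih, hx', add_mul, mul_add, mul_add]
      simp only [Matrix.smul_mul, Matrix.mul_smul, Matrix.one_mul, Matrix.mul_one, hN2, smul_zero, add_zero, smul_smul]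
      rw [add_assoc, ← add_smul]
      congr 2
      · ring
      · push_cast
        ring
  obtain ⟨m, hm⟩ : ∃ m, s = m + 1 := ⟨s - 1, by omega⟩
  have h1 := hp m
  have h2 : (x : Matrix (Fin 2) (Fin 2) F) ^ (m + 1) = 1 := by
    rw [← Matrix.SpecialLinearGroup.coe_pow, ← hm, ← hx, pow_orderOf_eq_one]
    rfl
  rw [h2, ← hm] at h1
  have he0 : e ≠ 0 := by
    rintro rfl
    norm_num at he
  have hc0 : ((s : ℕ) : F) * e ^ m ≠ 0 := mul_ne_zero hsF (pow_ne_zero _ he0)
  obtain ⟨d, hd⟩ : ∃ d : F, N = d • (1 : Matrix (Fin 2) (Fin 2) F) := by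
    refine ⟨(((s : ℕ) : F) * e ^ m)⁻¹ * (1 - e ^ s), ?_⟩
    have h3 : (((s : ℕ) : F) * e ^ m) • N = (1 - e ^ s) • (1 : Matrix (Fin 2) (Fin 2) F) := by
      rw [sub_smul, one_smul, h1]
      abel_nf
      rw [← h1]
      abel
    rw [mul_smul, ← h3, smul_smul, inv_mul_cancel₀ hc0, one_smul]
  have hd0 : d = 0 := by
    rw [hd] at hN2
    simp only [Matrix.smul_mul, Matrix.mul_smul, Matrix.one_mul, smul_smul] at hN2
    have := congrFun (congrFun hN2 0) 0
    simpa using this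
  rw [hd0, zero_smul] at hd
  rw [hd, add_zero] at hx'
  have h6 : x ^ 2 = 1 := by
    apply Subtype.ext
    rw [Matrix.SpecialLinearGroup.coe_pow, hx', _root_.smul_pow, he, one_pow, one_smul]
    rfl
  have h7 := Nat.le_of_dvd (by norm_num) (orderOf_dvd_of_pow_eq_one h6)
  omega

/-- the trace of the square -/
theorem tr_sq (x : SL(2, F)) : tr2 (x ^ 2) = tr2 x ^ 2 - 2 := by
  rw [tr2, pow_two, Matrix.SpecialLinearGroup.coe_mul, cay, Matrix.trace_sub, Matrix.trace_smul, Matrix.trace_one,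
    Fintype.card_fin, smul_eq_mul, pow_two]
  norm_num

theorem tr_sq_ne {x : SL(2, F)} {s : ℕ} (h5 : 5 ≤ s) (hx : orderOf x = s) (hx4 : tr2 x ^ 2 ≠ 4) (hs : s.Prime) :
    tr2 x ≠ tr2 (x ^ 2) ∧ tr2 x ≠ -tr2 (x ^ 2) := by
  have h6 : ∀ m : ℕ, x ^ m = 1 → ∀ _ : m ∣ 6, False := by
    intro m hm h6
    have h1 : s ∣ 6 := by
      rw [← hx]
      exact (orderOf_dvd_of_pow_eq_one hm).trans h6
    have h2 := Nat.le_of_dvd (by norm_num) h1
    have : s = 5 ∨ s = 6 := by omega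
    rcases this with rfl | rfl
    · norm_num at h1
    · norm_num at hs
  have hc := cay x
  rw [tr_sq]
  constructor
  · intro h
    have h1 : (tr2 x - 2) * (tr2 x + 1) = 0 := by linear_combination -h
    rcases mul_eq_zero.1 h1 with h2 | h2
    · apply hx4
      have : tr2 x = 2 := by linear_combination h2
      rw [this]
      norm_num
    · have h3 : tr2 x = -1 := by linear_combination h2
      rw [h3] at hc
      refine h6 3 ?_ (by norm_num)
      apply Subtype.ext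
      rw [Matrix.SpecialLinearGroup.coe_pow, pow_succ, pow_two, hc]
      rw [sub_mul, Matrix.smul_mul, hc]
      simp
  · intro h
    have h1 : (tr2 x + 2) * (tr2 x - 1) = 0 := by linear_combination h
    rcases mul_eq_zero.1 h1 with h2 | h2
    · apply hx4
      have : tr2 x = -2 := by linear_combination h2
      rw [this]
      norm_num
    · have h3 : tr2 x = 1 := by linear_combination h2
      rw [h3] at hc
      refine h6 6 ?_ (by norm_num)
      have h4 : (x : Matrix (Fin 2) (Fin 2) F) ^ 3 = -1 := by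
        rw [pow_succ, pow_two, hc, sub_mul, Matrix.smul_mul, hc]
        simp
      apply Subtype.ext
      rw [Matrix.SpecialLinearGroup.coe_pow, show (6 : ℕ) = 3 * 2 from rfl, pow_mul, h4]
      simp

end

/-- **Two classes.** -/
theorem sl_two {F : Type*} [Field F] [Finite F] (h4 : 4 ≤ Nat.card F) (h5 : Nat.card F ≠ 5) (h7 : Nat.card F ≠ 7)
    (h17 : Nat.card F ≠ 17) : ∃ (s : ℕ) (x y : SL(2, F)), s.Prime ∧ 5 ≤ s ∧ s ∣ Nat.card F ^ 2 - 1 ∧ orderOf x = s ∧
      orderOf y = s ∧ tr2 x ^ 2 ≠ 4 ∧ tr2 y ^ 2 ≠ 4 ∧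
      ∀ A : SL(2, F), (∀ c : F, (A : Matrix (Fin 2) (Fin 2) F) ≠ c • 1) →
        ∃ a b : SL(2, F), A = (a * x * a⁻¹) * (b * y * b⁻¹) := by
  have := Fintype.ofFinite F
  obtain ⟨s, hs, hs5, hsd⟩ := Cfsg.Agent.H962.TC.exists_prime_sq h4 h5 h7 h17
  have hsF : (s : F) ≠ 0 := by
    intro h0
    obtain ⟨p, hpc⟩ := CharP.exists F
    have hp : Fact p.Prime := ⟨CharP.char_is_prime F p⟩
    have h1 : p ∣ s := (CharP.cast_eq_zero_iff F p s).1 h0
    have h2 : p = s := (Nat.prime_dvd_prime_iff_eq hp.out hs).1 h1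
    have h3 : ((Nat.card F : ℕ) : F) = 0 := by
      rw [Nat.card_eq_fintype_card]
      exact FiniteField.cast_card_eq_zero F
    have h4 : s ∣ Nat.card F := h2 ▸ (CharP.cast_eq_zero_iff F p _).1 h3
    have h5 : s ∣ Nat.card F ^ 2 := dvd_pow h4 (by norm_num)
    have h6 : s ∣ 1 := by
      have := Nat.dvd_sub h5 hsd
      rwa [Nat.sub_sub_self (Nat.one_le_pow _ _ (by omega))] at this
    have := Nat.le_of_dvd one_pos h6
    omega
  obtain ⟨x, hx⟩ : ∃ x : SL(2, F), orderOf x = s := by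
    have h1 : s ∣ Nat.card (ProjectiveSpecialLinearGroup (Fin 2) F) := by
      have h2 := Cfsg.Agent.H394.SqPsl2.card_psl (F := F)
      have h4 : s ∣ Nat.gcd 2 (Fintype.card F - 1) * Nat.card (ProjectiveSpecialLinearGroup (Fin 2) F) := by
        rw [h2, ← Nat.card_eq_fintype_card]
        exact Dvd.dvd.mul_left hsd _
      rcases hs.dvd_mul.1 h4 with h | h
      · have h5 := Nat.le_of_dvd (by norm_num) (h.trans (Nat.gcd_dvd_left 2 (Fintype.card F - 1)))
        omega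
      · exact h
    have h2 : s ∣ Nat.card (SL(2, F)) := h1.trans (Subgroup.card_quotient_dvd_card _)
    have : Fact s.Prime := ⟨hs⟩
    exact exists_prime_orderOf_dvd_card' s h2
  have hx4 := tr_ne hs hs5 hsF hx
  have hy : orderOf (x ^ 2) = s := by
    rw [orderOf_pow, hx, (Nat.coprime_primes hs Nat.prime_two).2 (by omega), Nat.div_one]
  have hy4 := tr_ne hs hs5 hsF hy
  obtain ⟨h1, h2⟩ := tr_sq_ne hs5 hx hx4 hs
  exact ⟨s, x, x ^ 2, hs, hs5, hsd, hx, hy, hx4, hy4, fun A hA => prod_tr h1 h2 hx4 hy4 hA⟩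

end Cfsg.Agent.H269.T6
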