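import Cfsg.Agent.H269.T6.Row
import Cfsg.Agent.H269.T6.SlTwo
import Cfsg.Agent.H538.TC.SLThreeC
import Cfsg.Agent.S1054

/-!
# S2464: the row `F₄(q)`, `q ≠ 2, 3, 5, 7, 17` (helper269)

* `dd_of_tr` : diagonalisation of `Y ∈ SL₂(K)` with `(tr Y)² ≠ 4` over an extension;
* `t6_F4`, `six_F4`.
-/

set_option autoImplicit false
set_option linter.unusedSectionVars false

namespace Cfsg.Agent.H269.T6

open Cfsg.Lie Polynomial
open Cfsg.Agent.FixBN.FieldRGD (uu vv dd ww)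
open Cfsg.Agent.H145.SLTwo (cayley)
open scoped MatrixGroups

universe u

theorem charpoly2 {F : Type*} [Field F] (A : SL(2, F)) :
    (A : Matrix (Fin 2) (Fin 2) F).charpoly = X ^ 2 - C (tr2 A) * X + 1 := by
  rw [Matrix.charpoly_fin_two, Matrix.SpecialLinearGroup.det_coe, C_1]

theorem coe_dd_pow {F : Type*} [Field F] (c : Fˣ) (s : ℕ) :
    ((dd (c : F) c.ne_zero ^ s : SL(2, F)) : Matrix (Fin 2) (Fin 2) F) 0 0 = (c : F) ^ s := by
  have h : ∀ s : ℕ, ((dd (c : F) c.ne_zero ^ s : SL(2, F)) : Matrix (Fin 2) (Fin 2) F) =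
      Matrix.diagonal ![(c : F) ^ s, ((c : F)⁻¹) ^ s] := by
    intro s
    rw [Matrix.SpecialLinearGroup.coe_pow]
    have h1 : ((dd (c : F) c.ne_zero : SL(2, F)) : Matrix (Fin 2) (Fin 2) F) = Matrix.diagonal ![(c : F), (c : F)⁻¹] := by
      change !![(c : F), 0; 0, (c : F)⁻¹] = _
      ext i j
      fin_cases i <;> fin_cases j <;> simp
    rw [h1, Matrix.diagonal_pow]
    congr 1
    funext i
    fin_cases i <;> simp
  rw [h, Matrix.diagonal_apply_eq]
  rfl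

/-- diagonalisation -/
theorem dd_of_tr {K : Type u} [Field K] {Y : SL(2, K)} {s : ℕ} (hY : Y ^ s = 1) (h4 : tr2 Y ^ 2 ≠ 4) : DD Y s := by
  intro K' _ _ ι
  obtain ⟨Z, hZ⟩ : ∃ Z, Z = Matrix.SpecialLinearGroup.map ι Y := ⟨_, rfl⟩
  have hZt : tr2 Z = ι (tr2 Y) := by
    rw [hZ]
    change Matrix.trace ((Y : Matrix (Fin 2) (Fin 2) K).map ι) = ι (Matrix.trace (Y : Matrix (Fin 2) (Fin 2) K))
    rw [Matrix.trace_fin_two, Matrix.trace_fin_two, map_add]
    rfl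
  have hZ4 : tr2 Z ^ 2 ≠ 4 := by
    intro h
    apply h4
    apply ι.injective
    rw [map_pow, ← hZt, h]
    exact (map_ofNat ι 4).symm
  have hZs : Z ^ s = 1 := by rw [hZ, ← map_pow, hY, map_one]
  rw [← hZ]
  obtain ⟨f, hf⟩ : ∃ f : K'[X], f = X ^ 2 - C (tr2 Z) * X + 1 := ⟨_, rfl⟩
  have hfin : Finite f.SplittingField := Module.finite_of_finite K'
  obtain ⟨ι', hι'⟩ : ∃ ι' : K' →+* f.SplittingField, ι' = algebraMap K' f.SplittingField := ⟨_, rfl⟩
  have hdeg : f.natDegree = 2 := by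
    rw [hf, ← charpoly2, Matrix.charpoly_natDegree_eq_dim, Fintype.card_fin]
  have hsp : (f.map ι').Splits := by
    rw [hι']
    exact SplittingField.splits f
  obtain ⟨z, hz⟩ : ∃ z, (f.map ι').eval z = 0 := by
    refine Splits.exists_eval_eq_zero hsp ?_
    rw [degree_map]
    intro h
    have := natDegree_eq_zero_iff_degree_le_zero.2 h.le
    omega
  have hz1 : z ^ 2 - ι' (tr2 Z) * z + 1 = 0 := by
    have h2 : f.map ι' = (X ^ 2 - C (tr2 Z) * X + 1 : K'[X]).map ι' := congrArg (fun g : K'[X] => g.map ι') hf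
    rw [h2] at hz
    simpa using hz
  have hz0 : z ≠ 0 := by
    rintro rfl
    norm_num at hz1
  have hτ : ι' (tr2 Z) = z + z⁻¹ := by
    field_simp
    linear_combination -hz1
  have hzz : z ≠ z⁻¹ := by
    intro h
    apply hZ4
    apply ι'.injective
    rw [map_pow, hτ, ← h, map_ofNat]
    have h1 : z * z = 1 := by
      nth_rw 2 [h]
      exact mul_inv_cancel₀ hz0
    linear_combination 4 * h1
  have hlam : Function.Injective ![z, z⁻¹] := by
    intro i j hij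
    fin_cases i <;> fin_cases j
    · rfl
    · exact absurd hij hzz
    · exact absurd hij.symm hzz
    · rfl
  have hM : ((Matrix.SpecialLinearGroup.map ι' Z : SL(2, f.SplittingField)) :
      Matrix (Fin 2) (Fin 2) f.SplittingField).charpoly = ∏ i, (X - C (![z, z⁻¹] i)) := by
    rw [charpoly2, Fin.prod_univ_two]
    have h1 : tr2 (Matrix.SpecialLinearGroup.map ι' Z) = z + z⁻¹ := by
      rw [← hτ]
      change Matrix.trace ((Z : Matrix (Fin 2) (Fin 2) K').map ι') = ι' (Matrix.trace (Z : Matrix (Fin 2) (Fin 2) K'))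
      rw [Matrix.trace_fin_two, Matrix.trace_fin_two, map_add]
      rfl
    rw [h1]
    change X ^ 2 - C (z + z⁻¹) * X + 1 = (X - C z) * (X - C z⁻¹)
    have h2 : (1 : f.SplittingField[X]) = C z * C z⁻¹ := by rw [← C_mul, mul_inv_cancel₀ hz0, C_1]
    rw [h2, C_add]
    ring
  obtain ⟨P, hP⟩ := Cfsg.Agent.H194.Ore.exists_diag hlam hM (by norm_num)
  have he : Matrix.SpecialLinearGroup.map ι' Z = P * dd ((Units.mk0 z hz0 : (f.SplittingField)ˣ) : f.SplittingField)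
      (Units.mk0 z hz0).ne_zero * P⁻¹ := by
    rw [eq_mul_inv_iff_mul_eq]
    apply Subtype.ext
    rw [Matrix.SpecialLinearGroup.coe_mul, hP, Matrix.SpecialLinearGroup.coe_mul]
    congr 1
    change _ = !![z, 0; 0, z⁻¹]
    ext i j
    fin_cases i <;> fin_cases j <;> simp
  refine ⟨f.SplittingField, inferInstance, hfin, ι', Units.mk0 z hz0, P, he, ?_, ?_⟩
  · intro h
    apply hzz
    have : z = 1 := congrArg Units.val h
    rw [this, inv_one]
  · have h1 : dd ((Units.mk0 z hz0 : (f.SplittingField)ˣ) : f.SplittingField) (Units.mk0 z hz0).ne_zero ^ s = 1 := by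
      have h2 : (P * dd ((Units.mk0 z hz0 : (f.SplittingField)ˣ) : f.SplittingField) (Units.mk0 z hz0).ne_zero * P⁻¹) ^ s
          = 1 := by rw [← he, ← map_pow, hZs, map_one]
      rw [conj_pow] at h2
      rw [mul_inv_eq_one] at h2
      exact mul_left_cancel (h2.trans (mul_one P).symm)
    apply Units.ext
    have h2 := coe_dd_pow (Units.mk0 z hz0 : (f.SplittingField)ˣ) s
    rw [h1] at h2
    rw [Units.val_pow_eq_pow_val, ← h2, Units.val_one]
    rfl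

theorem coprime_arith {q n s : ℕ} (hq : 4 ≤ q) (hs : s.Prime) (h5 : 5 ≤ s) (h1 : s ∣ q ^ 2 - 1)
    (h2 : n ∣ q ^ 2 + q + 1) : Nat.Coprime n s := by
  rw [Nat.coprime_comm, hs.coprime_iff_not_dvd]
  intro h
  have h3 := h.trans h2
  obtain ⟨r, rfl⟩ := Nat.exists_eq_add_of_le hq
  have e1 : (4 + r) ^ 2 + (4 + r) + 1 - ((4 + r) ^ 2 - 1) = r + 6 := by
    have : 1 ≤ (4 + r) ^ 2 := Nat.one_le_pow _ _ (by omega)
    omega
  have h4 : s ∣ r + 6 := e1 ▸ Nat.dvd_sub h3 h1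
  have e2 : (4 + r) ^ 2 - 1 - (r + 6) * (r + 2) = 3 := by
    have : (4 + r) ^ 2 = (r + 6) * (r + 2) + 4 := by ring
    omega
  have h6 : s ∣ 3 := e2 ▸ Nat.dvd_sub h1 (Dvd.dvd.mul_right h4 _)
  have := Nat.le_of_dvd (by norm_num) h6
  omega

/-- **`F₄(q)`, `q ≠ 2, 3, 5, 7, 17`** -/
theorem t6_F4 {K : Type u} [Field K] [Finite K] (h4 : 4 ≤ Nat.card K) (h5 : Nat.card K ≠ 5) (h7 : Nat.card K ≠ 7)
    (h17 : Nat.card K ≠ 17) : Cfsg.Agent.H777.T6.T6 ↥(chevF4.group K) := by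
  obtain ⟨s, x, y, hs, hs5, hsd, hx, hy, hx4, hy4, hA⟩ := sl_two h4 h5 h7 h17
  obtain ⟨c, hirr, hc6, hcd, hsq⟩ := Cfsg.Agent.H538.TC.exists_class_all (F := K) (by omega)
  have hs6 : Nat.Coprime s 6 := by
    rw [show (6 : ℕ) = 2 * 3 from rfl]
    exact Nat.Coprime.mul_right ((Nat.coprime_primes hs Nat.prime_two).2 (by omega))
      ((Nat.coprime_primes hs Nat.prime_three).2 (by omega))
  have hxs : x ^ s = 1 := by rw [← hx, pow_orderOf_eq_one]
  have hys : y ^ s = 1 := by rw [← hy, pow_orderOf_eq_one]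
  exact tabF.t6 Cfsg.Agent.Nodes.KindF.isType h4 (by norm_num) (Cfsg.Agent.S1054.result chevF4 (by simp))
    Cfsg.Agent.Nodes.ChevChart.irrF hirr (pow_orderOf_eq_one c) hc6 hsq hs6 (coprime_arith h4 hs hs5 hsd hcd) hxs hys
    (dd_of_tr hxs hx4) (dd_of_tr hys hy4) hA

/-- **the row `F₄(q)`, `q ≠ 2, 3, 5, 7, 17`** -/
theorem six_F4 {S : Type*} [Group S] (h : Lie.IsoF4 S)
    (hq : ∀ (F : Type) [Field F] [Finite F], Nonempty (S ≃* ↥(chevF4.group F)) → Nat.card F ≠ 2 ∧ Nat.card F ≠ 3 ∧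
      Nat.card F ≠ 5 ∧ Nat.card F ≠ 7 ∧ Nat.card F ≠ 17) : Cfsg.Agent.H777.T6.T6 S := by
  obtain ⟨F, i1, i2, ⟨e⟩⟩ := h
  obtain ⟨h2, h3, h5, h7, h17⟩ := hq F ⟨e⟩
  have h1 : 1 < Nat.card F := Finite.one_lt_card
  exact Cfsg.Agent.H777.T6.T6.of_equiv e (t6_F4 (by omega) h5 h7 h17)

end Cfsg.Agent.H269.T6
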